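import Groth.Agent.AVLine.P1
import Groth.Agent.Rigid.Integral
import Groth.Agent.WeilExt.Cor

/-!
# Morphisms from the affine line to an abelian variety are constant
-/

set_option autoImplicit false
set_option linter.style.haveILetI false
set_option backward.isDefEq.respectTransparency false
universe u

open CategoryTheory CategoryTheory.Limits AlgebraicGeometry MonoidalCategory CartesianMonoidalCategory MonObj
open TensorProduct

noncomputable section

namespace Groth.Agent.AVLine

variable (K : Type u) [Field K]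

local notation "S" => Spec (CommRingCat.of K)

/-- The affine line over `Spec K`. -/
abbrev Ln : Over (Spec (CommRingCat.of K)) :=
  Over.mk (Spec.map (CommRingCat.ofHom (Polynomial.C : K →+* Polynomial K)))

/-- The point with coordinate `t`. -/
abbrev pt (t : K) : 𝟙_ (Over (Spec (CommRingCat.of K))) ⟶ Ln K :=
  Over.homMk (Spec.map (CommRingCat.ofHom (Polynomial.evalRingHom t))) (by
    show Spec.map _ ≫ Spec.map _ = 𝟙 _
    rw [← Spec.map_comp, ← Spec.map_id]
    congr 1
    exact CommRingCat.hom_ext (RingHom.ext fun a => Polynomial.eval_C))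

theorem Ln_hom_ext {T : Over (Spec (CommRingCat.of K))} {R : Type u} [CommRing R] (e : T.left ≅ Spec (CommRingCat.of R))
    (a b : T ⟶ Ln K) (ca cb : Polynomial K →+* R) (ha : a.left = e.hom ≫ Spec.map (CommRingCat.ofHom ca))
    (hb : b.left = e.hom ≫ Spec.map (CommRingCat.ofHom cb)) (h : ca Polynomial.X = cb Polynomial.X) : a = b := by
  have hC : ∀ r, ca (Polynomial.C r) = cb (Polynomial.C r) := by
    have h' := (Over.w a).trans (Over.w b).symm
    rw [ha, hb, Category.assoc, Category.assoc, cancel_epi] at h'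
    rw [show (Ln K).hom = Spec.map (CommRingCat.ofHom (Polynomial.C : K →+* Polynomial K)) from rfl,
      ← Spec.map_comp, ← Spec.map_comp] at h'
    exact fun r => congr($(Spec.map_injective h') r)
  apply Over.OverMorphism.ext
  rw [ha, hb, Polynomial.ringHom_ext hC h]

theorem exists_mul :
    ∃ m : Ln K ⊗ Ln K ⟶ Ln K, lift (𝟙 _) (toUnit _ ≫ pt K 1) ≫ m = 𝟙 _ ∧
      lift (𝟙 _) (toUnit _ ≫ pt K 0) ≫ m = toUnit _ ≫ pt K 0 ∧
      lift (toUnit _ ≫ pt K 0) (𝟙 _) ≫ m = toUnit _ ≫ pt K 0 := by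
  have sq := isPullback_SpecMap_of_isPushout _ _ _ _
    (CommRingCat.isPushout_tensorProduct K (Polynomial K) (Polynomial K))
  let e : (Ln K ⊗ Ln K).left ≅ Spec (CommRingCat.of (Polynomial K ⊗[K] Polynomial K)) :=
    (sq.isoPullback).symm
  let mu : Polynomial K →+* Polynomial K ⊗[K] Polynomial K :=
    (Polynomial.aeval ((Polynomial.X : Polynomial K) ⊗ₜ[K] (Polynomial.X : Polynomial K))).toRingHom
  have hfst : (fst (Ln K) (Ln K)).left = e.hom ≫ Spec.map (CommRingCat.ofHom
      (Algebra.TensorProduct.includeLeftRingHom : Polynomial K →+* Polynomial K ⊗[K] Polynomial K)) :=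
    sq.isoPullback_inv_fst.symm
  have hsnd : (snd (Ln K) (Ln K)).left = e.hom ≫ Spec.map (CommRingCat.ofHom
      ((Algebra.TensorProduct.includeRight : Polynomial K →ₐ[K] Polynomial K ⊗[K] Polynomial K).toRingHom)) :=
    sq.isoPullback_inv_snd.symm
  let m : Ln K ⊗ Ln K ⟶ Ln K := Over.homMk (e.hom ≫ Spec.map (CommRingCat.ofHom mu)) (by
    rw [← Over.w (fst (Ln K) (Ln K)), hfst]
    show (e.hom ≫ _) ≫ Spec.map _ = (e.hom ≫ _) ≫ Spec.map _
    rw [Category.assoc, Category.assoc, ← Spec.map_comp, ← Spec.map_comp]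
    congr 2
    refine CommRingCat.hom_ext (RingHom.ext fun a => ?_)
    show Polynomial.aeval _ (Polynomial.C a) = (Polynomial.C a) ⊗ₜ[K] (1 : Polynomial K)
    rw [Polynomial.aeval_C]
    rfl)
  have key : ∀ (ca cb : Polynomial K →+* Polynomial K) (a b : Ln K ⟶ Ln K),
      a.left = Spec.map (CommRingCat.ofHom ca) → b.left = Spec.map (CommRingCat.ofHom cb) →
      (∀ r, ca (Polynomial.C r) = Polynomial.C r) → (∀ r, cb (Polynomial.C r) = Polynomial.C r) →
      ∀ c : Ln K ⟶ Ln K, c.left = Spec.map (CommRingCat.ofHom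
        ((Polynomial.aeval (ca Polynomial.X * cb Polynomial.X)).toRingHom)) → lift a b ≫ m = c := by
    intro ca cb a b ha hb hca hcb c hc
    let caA : Polynomial K →ₐ[K] Polynomial K := { ca with commutes' := hca }
    let cbA : Polynomial K →ₐ[K] Polynomial K := { cb with commutes' := hcb }
    let ψ := Algebra.TensorProduct.lift caA cbA fun _ _ => Commute.all _ _
    have hl : (lift a b).left = Spec.map (CommRingCat.ofHom ψ.toRingHom) ≫ e.inv := by
      rw [← cancel_mono e.hom, Category.assoc, e.inv_hom_id, Category.comp_id]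
      rw [← cancel_mono e.inv, Category.assoc, e.hom_inv_id, Category.comp_id]
      apply pullback.hom_ext
      · show ((lift a b) ≫ fst _ _).left = (Spec.map (CommRingCat.ofHom ψ.toRingHom) ≫ e.inv) ≫ _
        rw [lift_fst, ha, Category.assoc]
        show _ = _ ≫ sq.isoPullback.hom ≫ pullback.fst _ _
        rw [sq.isoPullback_hom_fst, ← Spec.map_comp]
        congr 1
        refine CommRingCat.hom_ext (RingHom.ext fun x => ?_)
        show ca x = ψ (x ⊗ₜ[K] (1 : Polynomial K))
        simp [ψ, caA]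
      · show ((lift a b) ≫ snd _ _).left = (Spec.map (CommRingCat.ofHom ψ.toRingHom) ≫ e.inv) ≫ _
        rw [lift_snd, hb, Category.assoc]
        show _ = _ ≫ sq.isoPullback.hom ≫ pullback.snd _ _
        rw [sq.isoPullback_hom_snd, ← Spec.map_comp]
        congr 1
        refine CommRingCat.hom_ext (RingHom.ext fun x => ?_)
        show cb x = ψ ((1 : Polynomial K) ⊗ₜ[K] x)
        simp [ψ, cbA]
    apply Over.OverMorphism.ext
    rw [Over.comp_left, hl, hc]
    show (_ ≫ e.inv) ≫ e.hom ≫ _ = _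
    rw [Category.assoc, e.inv_hom_id_assoc, ← Spec.map_comp]
    congr 1
    refine CommRingCat.hom_ext ?_
    refine Polynomial.ringHom_ext (fun r => ?_) ?_
    · show ψ (Polynomial.aeval _ (Polynomial.C r)) = Polynomial.aeval _ (Polynomial.C r)
      rw [Polynomial.aeval_C, Polynomial.aeval_C, AlgHom.commutes]
    · show ψ (Polynomial.aeval _ Polynomial.X) = Polynomial.aeval _ Polynomial.X
      simp [ψ, caA, cbA]
  have hconst : ∀ t : K, (toUnit (Ln K) ≫ pt K t).left = Spec.map (CommRingCat.ofHom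
      ((Polynomial.C : K →+* Polynomial K).comp (Polynomial.evalRingHom t))) := fun t => by
    show Spec.map (CommRingCat.ofHom (Polynomial.C : K →+* Polynomial K)) ≫
      Spec.map (CommRingCat.ofHom (Polynomial.evalRingHom t)) = _
    rw [← Spec.map_comp]; rfl
  have hid : (𝟙 (Ln K) : Ln K ⟶ Ln K).left = Spec.map (CommRingCat.ofHom (RingHom.id (Polynomial K))) := by
    show 𝟙 (Spec (CommRingCat.of (Polynomial K))) = _
    rw [← Spec.map_id]; rfl
  refine ⟨m, ?_, ?_, ?_⟩
  · refine key _ _ _ _ hid (hconst 1) (fun r => rfl) (fun r => by simp) _ ?_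
    rw [hid]; congr 2; exact Polynomial.ringHom_ext (fun r => by simp) (by simp)
  · refine key _ _ _ _ hid (hconst 0) (fun r => rfl) (fun r => by simp) _ ?_
    rw [hconst]; congr 2; exact Polynomial.ringHom_ext (fun r => by simp) (by simp)
  · refine key _ _ _ _ (hconst 0) hid (fun r => by simp) (fun r => rfl) _ ?_
    rw [hconst]; congr 2; exact Polynomial.ringHom_ext (fun r => by simp) (by simp)

/-- A morphism from the projective line to a separated group scheme is constant on the affine line. -/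
theorem eq_const_of_P1 [Algebra P1.R0.{u} K] (A : Over (Spec (CommRingCat.of K))) [GrpObj A] [IsSeparated A.hom]
    [LocallyOfFiniteType A.hom] (F : Over.mk (CohB1.ProjSpaceOver.toBase 1 (Spec (CommRingCat.of K))) ⟶ A)
    (f : Ln K ⟶ A) (hf : (Over.homMk (line K 0) (line_toBase K 0) :
      Ln K ⟶ Over.mk (CohB1.ProjSpaceOver.toBase 1 (Spec (CommRingCat.of K)))) ≫ F = f) :
    f = toUnit _ ≫ pt K 0 ≫ f := by
  obtain ⟨m, hm1, hm2, hm3⟩ := exists_mul K
  let V : Over (Spec (CommRingCat.of K)) := Over.mk (CohB1.ProjSpaceOver.toBase 1 (Spec (CommRingCat.of K)))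
  haveI : Smooth V.hom := smooth_toBase K
  haveI : IsProper V.hom := REqP1.isProper_base _
  haveI : GeometricallyIntegral V.hom := geometricallyIntegral_toBase K
  haveI : IsIntegral V.left := GeometricallyIntegral.isIntegral_of_subsingleton V.hom
  haveI : IsLocallyNoetherian V.left := LocallyOfFiniteType.isLocallyNoetherian V.hom
  let j : Ln K ⟶ V := Over.homMk (line K 0) (line_toBase K 0)
  haveI : IsOpenImmersion j.left := inferInstanceAs (IsOpenImmersion (line K 0))
  let jj : Ln K ⊗ Ln K ⟶ V ⊗ V := j ⊗ₘ j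
  haveI : IsOpenImmersion jj.left := by
    rw [Over.tensorHom_left]; infer_instance
  haveI : IsIntegral (V ⊗ V).left := inferInstanceAs (IsIntegral (pullback V.hom V.hom))
  haveI : Smooth (V ⊗ V).hom := by rw [Over.tensorObj_hom]; infer_instance
  let U : (V ⊗ V).left.Opens := jj.left.opensRange
  have hU : Dense (U : Set (V ⊗ V).left) := U.2.dense ⟨jj.left ((lift (pt K 0) (pt K 0)).left (IsLocalRing.closedPoint K)),
    (lift (pt K 0) (pt K 0)).left (IsLocalRing.closedPoint K), rfl⟩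
  let g : (U : Scheme.{u}) ⟶ V.left := jj.left.isoOpensRange.inv ≫ (m ≫ j).left
  have hg : g ≫ V.hom = U.ι ≫ (V ⊗ V).hom := by
    show (jj.left.isoOpensRange.inv ≫ (m ≫ j).left) ≫ V.hom = _
    rw [Category.assoc, Over.w (m ≫ j), ← Over.w jj, ← Category.assoc, Scheme.Hom.isoOpensRange_inv_comp]
  haveI : IsLocallyNoetherian (V ⊗ V).left := LocallyOfFiniteType.isLocallyNoetherian (V ⊗ V).hom
  obtain ⟨U', hle, g', hg', hres, hU'⟩ := S4440.result V.hom (V ⊗ V).hom
    (fun y _ => WeilExt.regular_of_smooth WeilExt.regular_spec (V ⊗ V).hom y) U hU g hg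
  haveI : GrpObj (Over.mk A.hom) := inferInstanceAs (GrpObj A)
  obtain ⟨Φ, ⟨hΦ₁, hΦ₂⟩, -⟩ := WeilExt.existsUnique_scheme (V ⊗ V).hom A.hom U' (fun x => by
    have : {y | (V ⊗ V).hom y = (V ⊗ V).hom x} = Set.univ :=
      Set.eq_univ_of_forall fun y => Subsingleton.elim (α := PrimeSpectrum K) _ _
    rw [this, Set.inter_univ]
    exact (hU.mono hle) x) hU' (g' ≫ F.left) (by rw [Category.assoc, Over.w F, hg'])
  let φ : V ⊗ V ⟶ A := Over.homMk Φ hΦ₁
  have hφ : jj ≫ φ = m ≫ f := Over.OverMorphism.ext (by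
    show jj.left ≫ Φ = _
    rw [← Scheme.Hom.isoOpensRange_hom_ι jj.left, Category.assoc, ← Scheme.homOfLE_ι _ hle, Category.assoc,
      hΦ₂, reassoc_of% hres, ← hf]
    show jj.left.isoOpensRange.hom ≫ (jj.left.isoOpensRange.inv ≫ (m ≫ j).left) ≫ F.left = _
    rw [Category.assoc, Iso.hom_inv_id_assoc]
    rfl)
  let v₀ := pt K 0 ≫ j
  have hext : ∀ a b : V ⟶ A, j ≫ a = j ≫ b → a = b := fun a b h => by
    apply Over.OverMorphism.ext
    haveI : IsDominant j.left := ⟨j.left.isOpenEmbedding.isOpen_range.dense ⟨_, (pt K 0).left (IsLocalRing.closedPoint K), rfl⟩⟩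
    exact ext_of_isDominant_of_isSeparated A.hom (by rw [Over.w, Over.w]) j.left (congrArg CommaMorphism.left h)
  have hr : lift (𝟙 _) (toUnit _ ≫ v₀) ≫ φ = toUnit V ≫ pt K 0 ≫ f := by
    refine hext _ _ ?_
    have : j ≫ lift (𝟙 V) (toUnit V ≫ v₀) = lift (𝟙 _) (toUnit _ ≫ pt K 0) ≫ jj := by
      apply CartesianMonoidalCategory.hom_ext <;> simp [jj, v₀, ← Category.assoc, toUnit_unique (j ≫ toUnit V) (toUnit _)]
    rw [reassoc_of% this, hφ, reassoc_of% hm2, ← Category.assoc j, toUnit_unique (j ≫ toUnit V) (toUnit _)]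
  have hl : lift (toUnit _ ≫ v₀) (𝟙 _) ≫ φ = toUnit V ≫ pt K 0 ≫ f := by
    refine hext _ _ ?_
    have : j ≫ lift (toUnit V ≫ v₀) (𝟙 V) = lift (toUnit _ ≫ pt K 0) (𝟙 _) ≫ jj := by
      apply CartesianMonoidalCategory.hom_ext <;> simp [jj, v₀, ← Category.assoc, toUnit_unique (j ≫ toUnit V) (toUnit _)]
    rw [reassoc_of% this, hφ, reassoc_of% hm3, ← Category.assoc j, toUnit_unique (j ≫ toUnit V) (toUnit _)]
  have hconst := Rigid.eq_const_of_axes (Rigid.goodFibres_of_geometricallyIntegral V.hom) v₀ v₀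
    (Rigid.isPreconnected_fibre_of_geometricallyIntegral V.hom) φ (pt K 0 ≫ f) hr hl
  calc f = lift (𝟙 _) (toUnit _ ≫ pt K 1) ≫ m ≫ f := by rw [reassoc_of% hm1]
    _ = lift (𝟙 _) (toUnit _ ≫ pt K 1) ≫ jj ≫ φ := by rw [hφ]
    _ = _ := by
      rw [hconst]
      simp only [← Category.assoc]
      congr 1
      congr 1
      exact toUnit_unique _ _

/-- A morphism from the affine line to an abelian variety is constant. -/
theorem eq_const (A : Over (Spec (CommRingCat.of K))) [GrpObj A] [IsProper A.hom]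
    (f : Ln K ⟶ A) : f = toUnit _ ≫ pt K 0 ≫ f := by
  letI := intAlg K
  obtain ⟨m, hm1, hm2, hm3⟩ := exists_mul K
  let V : Over (Spec (CommRingCat.of K)) := Over.mk (CohB1.ProjSpaceOver.toBase 1 (Spec (CommRingCat.of K)))
  haveI : Smooth V.hom := smooth_toBase K
  haveI : IsProper V.hom := REqP1.isProper_base _
  haveI : GeometricallyIntegral V.hom := geometricallyIntegral_toBase K
  haveI : IsIntegral V.left := GeometricallyIntegral.isIntegral_of_subsingleton V.hom
  haveI : IsLocallyNoetherian V.left := LocallyOfFiniteType.isLocallyNoetherian V.hom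
  let j : Ln K ⟶ V := Over.homMk (line K 0) (line_toBase K 0)
  haveI : IsOpenImmersion j.left := inferInstanceAs (IsOpenImmersion (line K 0))
  let jj : Ln K ⊗ Ln K ⟶ V ⊗ V := j ⊗ₘ j
  haveI : IsOpenImmersion jj.left := by
    rw [Over.tensorHom_left]; infer_instance
  haveI : IsIntegral (V ⊗ V).left := inferInstanceAs (IsIntegral (pullback V.hom V.hom))
  haveI : Smooth (V ⊗ V).hom := by rw [Over.tensorObj_hom]; infer_instance
  let U : (V ⊗ V).left.Opens := jj.left.opensRange
  have hU : Dense (U : Set (V ⊗ V).left) := U.2.dense ⟨jj.left ((lift (pt K 0) (pt K 0)).left (IsLocalRing.closedPoint K)),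
    (lift (pt K 0) (pt K 0)).left (IsLocalRing.closedPoint K), rfl⟩
  let g : (U : Scheme.{u}) ⟶ A.left := jj.left.isoOpensRange.inv ≫ (m ≫ f).left
  have hg : g ≫ A.hom = U.ι ≫ (V ⊗ V).hom := by
    show (jj.left.isoOpensRange.inv ≫ (m ≫ f).left) ≫ A.hom = _
    rw [Category.assoc, Over.w (m ≫ f), ← Over.w jj, ← Category.assoc, Scheme.Hom.isoOpensRange_inv_comp]
  haveI : IsLocallyNoetherian (V ⊗ V).left := LocallyOfFiniteType.isLocallyNoetherian (V ⊗ V).hom
  obtain ⟨U', hle, g', hg', hres, hU'⟩ := S4440.result A.hom (V ⊗ V).hom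
    (fun y _ => WeilExt.regular_of_smooth WeilExt.regular_spec (V ⊗ V).hom y) U hU g hg
  haveI : GrpObj (Over.mk A.hom) := inferInstanceAs (GrpObj A)
  obtain ⟨Φ, ⟨hΦ₁, hΦ₂⟩, -⟩ := WeilExt.existsUnique_scheme (V ⊗ V).hom A.hom U' (fun x => by
    have : {y | (V ⊗ V).hom y = (V ⊗ V).hom x} = Set.univ :=
      Set.eq_univ_of_forall fun y => Subsingleton.elim (α := PrimeSpectrum K) _ _
    rw [this, Set.inter_univ]
    exact (hU.mono hle) x) hU' g' hg'
  let φ : V ⊗ V ⟶ A := Over.homMk Φ hΦ₁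
  have hφ : jj ≫ φ = m ≫ f := Over.OverMorphism.ext (by
    show jj.left ≫ Φ = _
    rw [← Scheme.Hom.isoOpensRange_hom_ι jj.left, Category.assoc, ← Scheme.homOfLE_ι _ hle, Category.assoc,
      hΦ₂, hres, Iso.hom_inv_id_assoc])
  let v₀ := pt K 0 ≫ j
  have hext : ∀ a b : V ⟶ A, j ≫ a = j ≫ b → a = b := fun a b h => by
    apply Over.OverMorphism.ext
    haveI : IsDominant j.left := ⟨j.left.isOpenEmbedding.isOpen_range.dense ⟨_, (pt K 0).left (IsLocalRing.closedPoint K), rfl⟩⟩
    exact ext_of_isDominant_of_isSeparated A.hom (by rw [Over.w, Over.w]) j.left (congrArg CommaMorphism.left h)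
  have hr : lift (𝟙 _) (toUnit _ ≫ v₀) ≫ φ = toUnit V ≫ pt K 0 ≫ f := by
    refine hext _ _ ?_
    have : j ≫ lift (𝟙 V) (toUnit V ≫ v₀) = lift (𝟙 _) (toUnit _ ≫ pt K 0) ≫ jj := by
      apply CartesianMonoidalCategory.hom_ext <;> simp [jj, v₀, ← Category.assoc, toUnit_unique (j ≫ toUnit V) (toUnit _)]
    rw [reassoc_of% this, hφ, reassoc_of% hm2, ← Category.assoc j, toUnit_unique (j ≫ toUnit V) (toUnit _)]
  have hl : lift (toUnit _ ≫ v₀) (𝟙 _) ≫ φ = toUnit V ≫ pt K 0 ≫ f := by
    refine hext _ _ ?_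
    have : j ≫ lift (toUnit V ≫ v₀) (𝟙 V) = lift (toUnit _ ≫ pt K 0) (𝟙 _) ≫ jj := by
      apply CartesianMonoidalCategory.hom_ext <;> simp [jj, v₀, ← Category.assoc, toUnit_unique (j ≫ toUnit V) (toUnit _)]
    rw [reassoc_of% this, hφ, reassoc_of% hm3, ← Category.assoc j, toUnit_unique (j ≫ toUnit V) (toUnit _)]
  have hconst := Rigid.eq_const_of_axes (Rigid.goodFibres_of_geometricallyIntegral V.hom) v₀ v₀
    (Rigid.isPreconnected_fibre_of_geometricallyIntegral V.hom) φ (pt K 0 ≫ f) hr hl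
  calc f = lift (𝟙 _) (toUnit _ ≫ pt K 1) ≫ m ≫ f := by rw [reassoc_of% hm1]
    _ = lift (𝟙 _) (toUnit _ ≫ pt K 1) ≫ jj ≫ φ := by rw [hφ]
    _ = _ := by
      rw [hconst]
      simp only [← Category.assoc]
      congr 1
      congr 1
      exact toUnit_unique _ _

end Groth.Agent.AVLine
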