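import Groth.Agent.REqP1.Chart
import Groth.Agent.REqP1.Link
import Mathlib.AlgebraicGeometry.Geometrically.Integral

/-!
# The projective line over a field is smooth, proper and geometrically integral
-/

set_option autoImplicit false
set_option backward.isDefEq.respectTransparency false
universe u

open CategoryTheory CategoryTheory.Limits AlgebraicGeometry TensorProduct Polynomial

noncomputable section

namespace Groth.Agent.AVLine

attribute [local instance 2000] Algebra.toModule

/-- Any ring is an algebra over the integers used in the definition of projective space. -/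
@[implicit_reducible]
def intAlg (A : Type u) [CommRing A] : Algebra P1.R0.{u} A :=
  ((Int.castRingHom A).comp ULift.ringEquiv.toRingHom).toAlgebra

variable (A : Type u) [CommRing A] [Algebra P1.R0.{u} A]

theorem polyEquiv_C (a : A) : (REqP1.chartOverEquiv A) ((1 : Polynomial P1.R0.{u}) ⊗ₜ[P1.R0.{u}] a) = Polynomial.C a := by
  show (polyEquivTensor P1.R0.{u} A).symm (a ⊗ₜ[P1.R0.{u}] (1 : Polynomial P1.R0.{u})) = _
  simp [Polynomial.smul_eq_C_mul, Algebra.smul_def]

/-- The coordinate on a chart. -/
def lineIso : Spec (CommRingCat.of A[X]) ≅ Spec (CommRingCat.of (REqP1.ChartOver A)) :=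
  Scheme.Spec.mapIso (REqP1.chartOverEquiv A).toCommRingCatIso.op

/-- The affine line as an open piece of the projective line. -/
def line (i : Fin (1 + 1)) : Spec (CommRingCat.of A[X]) ⟶ CohB1.ProjSpaceOver 1 (Spec (CommRingCat.of A)) :=
  (lineIso A).hom ≫ REqP1.chartOver A i

instance (i : Fin (1 + 1)) : IsOpenImmersion (line A i) := by
  unfold line; infer_instance

theorem line_toBase (i : Fin (1 + 1)) :
    line A i ≫ CohB1.ProjSpaceOver.toBase 1 _ = Spec.map (CommRingCat.ofHom (Polynomial.C : A →+* A[X])) := by
  rw [line, Category.assoc, REqP1.chartOver_toBase, lineIso, Functor.mapIso_hom, Scheme.Spec_map, ← Spec.map_comp]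
  congr 1
  exact CommRingCat.hom_ext (RingHom.ext fun a => polyEquiv_C A a)

theorem smooth_C : Smooth (Spec.map (CommRingCat.ofHom (Polynomial.C : A →+* A[X]))) := by
  rw [HasRingHomProperty.Spec_iff (P := @Smooth)]
  haveI : Algebra.Smooth A A[X] := ⟨inferInstance, inferInstance⟩
  exact (RingHom.smooth_algebraMap (R := A) (S := A[X])).mpr this

theorem smooth_toBase : Smooth (CohB1.ProjSpaceOver.toBase 1 (Spec (CommRingCat.of A))) := by
  let 𝒰 : (CohB1.ProjSpaceOver 1 (Spec (CommRingCat.of A))).OpenCover :=
    Scheme.Cover.mkOfCovers (ULift.{u} (Fin (1 + 1))) (fun _ => Spec (CommRingCat.of A[X]))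
      (fun i => line A i.down) (fun z => by
        obtain ⟨i, w, rfl⟩ := REqP1.exists_mem_chart A z
        exact ⟨⟨i⟩, (lineIso A).inv w, by simp [line, ← Scheme.Hom.comp_apply]⟩) (fun _ => inferInstance)
  rw [IsZariskiLocalAtSource.iff_of_openCover (P := @Smooth) 𝒰]
  intro i
  show Smooth (line A i.down ≫ _)
  rw [line_toBase]
  exact smooth_C A

variable (K : Type u) [Field K] [Algebra P1.R0.{u} K]

theorem geometricallyIntegral_toBase :
    GeometricallyIntegral (CohB1.ProjSpaceOver.toBase 1 (Spec (CommRingCat.of K))) := by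
  refine ⟨geometrically_iff_of_commRing.2 fun L _ _ Z fst snd hZ => ?_⟩
  letI := intAlg L
  haveI := REqP1.isIntegral_over L
  have h := hZ.paste_horiz (IsPullback.of_hasPullback (CohB1.ProjSpace.toSpec 1 (ULift.{u} ℤ))
    (specULiftZIsTerminal.from (Spec (CommRingCat.of K))))
  rw [specULiftZIsTerminal.hom_ext (Spec.map (CommRingCat.ofHom (algebraMap K L)) ≫
    specULiftZIsTerminal.from (Spec (CommRingCat.of K))) (specULiftZIsTerminal.from (Spec (CommRingCat.of L)))] at h
  haveI : IsIntegral (pullback (CohB1.ProjSpace.toSpec 1 (ULift.{u} ℤ))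
      (specULiftZIsTerminal.from (Spec (CommRingCat.of L)))) := REqP1.isIntegral_over L
  haveI : Nonempty Z := ⟨h.isoPullback.inv (genericPoint _)⟩
  exact isIntegral_of_isOpenImmersion h.isoPullback.hom

end Groth.Agent.AVLine
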